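import Groth.Agent.ProjDim.Syzygy
import Groth.Agent.DRingPC.TorDim

/-!
Projective dimension kills `Tor` in the second variable.
-/

set_option autoImplicit false
set_option linter.style.haveILetI false
universe u

open CategoryTheory CategoryTheory.Limits

namespace Groth.Agent.ProjDim

variable {A : Type u} [CommRing A]

lemma isZero_tor_succ_of_syz (N : ModuleCat.{u} A) : ∀ (k : ℕ) (M : ModuleCat.{u} A),
    (∀ X : ModuleCat.{u} A, Syz k M X → T1 (A := A) X N) →
    IsZero (((CategoryTheory.Tor (ModuleCat.{u} A) (k + 1)).obj M).obj N)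
  | 0, M, h => by
    let P := projectiveResolution N
    refine IsZero.of_iso ?_ (DRingPC.torIso M P 1)
    let π : P.complex.X 0 →ₗ[A] N := (P.π.f 0).hom
    haveI : Module.Projective A (P.complex.X 0) := (IsProjective.iff_projective _).2 (P.projective 0)
    have hπ : Function.Surjective π := (ModuleCat.epi_iff_surjective _).1 inferInstance
    have hg : Function.Surjective (Finsupp.linearCombination A (id : M → M)) :=
      Finsupp.linearCombination_id_surjective A M
    have hi : Function.Injective ((LinearMap.ker π).subtype.lTensor M) :=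
      (snake (Finsupp.linearCombination A (id : M → M)) π hg hπ).1 (h M rfl _ _ hg)
    let c : P.complex.X 1 →ₗ[A] LinearMap.ker π :=
      (P.complex.d 1 0).hom.codRestrict _ fun x =>
        ConcreteCategory.congr_hom P.complex_d_comp_π_f_zero x
    have hcd : Function.Exact (P.complex.d 2 1).hom c := fun x => by
      have hx := (ShortComplex.ShortExact.moduleCat_exact_iff_function_exact _).1 (P.exact_succ 0) x
      exact ⟨fun h0 => hx.1 (congrArg Subtype.val h0), fun h0 => Subtype.ext (hx.2 h0)⟩
    have hc : Function.Surjective c := fun ⟨y, hy⟩ => by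
      obtain ⟨x, hx⟩ := ((ShortComplex.ShortExact.moduleCat_exact_iff_function_exact _).1
        P.exact₀ y).1 hy
      exact ⟨x, Subtype.ext hx⟩
    rw [← HomologicalComplex.exactAt_iff_isZero_homology,
      HomologicalComplex.exactAt_iff' _ 2 1 0 (by simp) (by simp),
      ShortComplex.ShortExact.moduleCat_exact_iff_function_exact]
    show Function.Exact ((P.complex.d 2 1).hom.lTensor M) ((P.complex.d 1 0).hom.lTensor M)
    intro y
    constructor
    · intro hy
      refine (lTensor_exact M hcd hc y).1 (hi ?_)
      rw [map_zero, ← LinearMap.lTensor_comp_apply]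
      exact hy
    · rintro ⟨z, rfl⟩
      rw [← LinearMap.lTensor_comp_apply, ← ModuleCat.hom_comp, P.complex.d_comp_d]
      exact (LinearMap.congr_fun (LinearMap.lTensor_zero M) z)
  | k + 1, M, h => by
    let g : (M →₀ A) →ₗ[A] M := Finsupp.linearCombination A (id : M → M)
    have hg : Function.Surjective g := Finsupp.linearCombination_id_surjective A M
    let S : ShortComplex (ModuleCat.{u} A) := g.shortComplexKer
    have hS : S.ShortExact := LinearMap.shortExact_shortComplexKer hg
    have hF : Module.Flat A S.X₂ := inferInstanceAs (Module.Flat A (M →₀ A))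
    have hK := isZero_tor_succ_of_syz N k S.X₁ fun X hX =>
      h X (syz_cons ⟨ModuleCat.of A (M →₀ A), g, inferInstanceAs (Module.Flat A (M →₀ A)), hg, hX⟩)
    let P := projectiveResolution N
    have hT := DRingPC.tensorResSC_shortExact hS P
    refine IsZero.of_iso ?_ (DRingPC.torIso M P (k + 2))
    refine (hT.homology_exact₃ (k + 2) (k + 1) (by simp)).isZero_of_both_zeros ?_ ?_
    · exact (DRingPC.isZero_tensorRes_of_flat S.X₂ P (k + 1)).eq_of_src _ _
    · exact (hK.of_iso (DRingPC.torIso S.X₁ P (k + 1)).symm).eq_of_tgt _ _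

/-- S14414. -/
lemma isZero_tor_of_projDim (M N : ModuleCat.{u} A) (q : ℕ) (hN : HasProjectiveDimensionLT N (q + 1))
    (i : ℕ) (hi : q < i) : IsZero (((CategoryTheory.Tor (ModuleCat.{u} A) i).obj M).obj N) := by
  obtain ⟨k, rfl⟩ : ∃ k, i = k + 1 := ⟨i - 1, by lia⟩
  refine isZero_tor_succ_of_syz N k M fun X hX => t1_of_projDim k N ?_ M X hX
  exact hasProjectiveDimensionLT_of_ge N (q + 1) (k + 1) (by lia)

end Groth.Agent.ProjDim
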