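import Groth.Agent.ProjDim.Regular
import Groth.Agent.ProjDim.Tor
import Mathlib.RingTheory.Ideal.AssociatedPrime.Finiteness
import Mathlib.RingTheory.Flat.FaithfullyFlat.Algebra
import Mathlib.CategoryTheory.Abelian.Injective.Dimension
import Mathlib.LinearAlgebra.Pi

/-!
Projective dimension of finite modules: `Ext` criteria, base change.
-/

set_option autoImplicit false
set_option linter.style.haveILetI false
universe u

open CategoryTheory CategoryTheory.Limits CategoryTheory.Abelian
open scoped TensorProduct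

namespace Groth.Agent.ProjDim

variable {A : Type u} [CommRing A]

lemma ext_middle {S : ShortComplex (ModuleCat.{u} A)} (hS : S.ShortExact) (M : ModuleCat.{u} A) (n : ℕ)
    (h₁ : Subsingleton (Ext.{u} M S.X₁ n)) (h₃ : Subsingleton (Ext.{u} M S.X₃ n)) :
    Subsingleton (Ext.{u} M S.X₂ n) := by
  refine ⟨fun a b => ?_⟩
  obtain ⟨x, hx⟩ := Ext.covariant_sequence_exact₂ M hS (a - b) (Subsingleton.elim _ _)
  rw [← sub_eq_zero, ← hx, Subsingleton.elim x 0, Ext.zero_comp]

lemma ext_congr (M : ModuleCat.{u} A) {N N' : ModuleCat.{u} A} (e : N ≅ N') (n : ℕ)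
    (h : Subsingleton (Ext.{u} M N n)) : Subsingleton (Ext.{u} M N' n) := by
  have key : ∀ x : Ext.{u} M N' n, x = 0 := fun x => by
    have h1 : x.comp (Ext.mk₀ e.inv) (add_zero n) = 0 := Subsingleton.elim _ _
    have h2 := congrArg (fun y => Ext.comp y (Ext.mk₀ e.hom) (add_zero n)) h1
    simpa using h2
  exact ⟨fun a b => (key a).trans (key b).symm⟩

lemma ext_pi (M : ModuleCat.{u} A) (N : Type u) [AddCommGroup N] [Module A N] (n : ℕ)
    (h : Subsingleton (Ext.{u} M (ModuleCat.of A N) n)) :
    ∀ m : ℕ, Subsingleton (Ext.{u} M (ModuleCat.of A (Fin m → N)) n)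
  | 0 => ⟨fun a b => by
      have hz : IsZero (ModuleCat.of A (Fin 0 → N)) := ModuleCat.isZero_of_subsingleton _
      have : ∀ x : Ext.{u} M (ModuleCat.of A (Fin 0 → N)) n, x = 0 := fun x => by
        rw [← Ext.comp_mk₀_id x, hz.eq_of_src (𝟙 _) 0, Ext.mk₀_zero, Ext.comp_zero]
      rw [this a, this b]⟩
  | m + 1 => by
    let S := ShortComplex.mk (biprod.inl : ModuleCat.of A N ⟶ _ ⊞ ModuleCat.of A (Fin m → N))
      biprod.snd biprod.inl_snd
    have hS : S.ShortExact :=
      (ShortComplex.Splitting.ofHasBinaryBiproduct (ModuleCat.of A N)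
        (ModuleCat.of A (Fin m → N))).shortExact
    exact ext_congr M (ModuleCat.biprodIsoProd (ModuleCat.of A N) (ModuleCat.of A (Fin m → N)) ≪≫
      (Fin.consLinearEquiv A (fun _ => N)).toModuleIso) n (ext_middle hS M n h (ext_pi M N n h m))

/-- S5789. -/
lemma projDim_iff_ext_quotient [IsNoetherianRing A] (M : ModuleCat.{u} A) [Module.Finite A M] (n : ℕ) :
    HasProjectiveDimensionLT M (n + 1) ↔
      ∀ I : Ideal A, Subsingleton (Ext.{u} M (ModuleCat.of A (A ⧸ I)) (n + 1)) := by
  refine ⟨fun h I => @HasProjectiveDimensionLT.subsingleton _ _ _ _ _ (n + 1) h (n + 1) le_rfl _,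
    fun h => ?_⟩
  refine ModuleCat.hasProjectiveDimensionLT_of_forall_finite M (n + 1) fun L hL => ?_
  refine IsNoetherianRing.induction_on_isQuotientEquivQuotientPrime (A := A) hL
    (motive := fun N _ _ _ => Subsingleton (Ext.{u} M (ModuleCat.of A N) (n + 1))) ?_ ?_ ?_
  · intro N _ _ _ _
    have hz : IsZero (ModuleCat.of A N) := ModuleCat.isZero_of_subsingleton _
    refine ext_congr M (((ModuleCat.isZero_of_subsingleton (ModuleCat.of A (A ⧸ (⊤ : Ideal A))))).iso hz)
      _ (h ⊤)
  · intro N _ _ _ p e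
    exact ext_congr M e.symm.toModuleIso _ (h p.1)
  · intro N₁ _ _ _ N₂ _ _ _ N₃ _ _ _ f g hf hg hfg h₁ h₃
    let S : ShortComplex (ModuleCat.{u} A) :=
      ShortComplex.mk (ModuleCat.ofHom f) (ModuleCat.ofHom g) (ModuleCat.hom_ext hfg.linearMap_comp_eq_zero)
    have hS : S.ShortExact :=
      { exact := (ShortComplex.ShortExact.moduleCat_exact_iff_function_exact S).2 hfg
        mono_f := (ModuleCat.mono_iff_injective _).2 hf
        epi_g := (ModuleCat.epi_iff_surjective _).2 hg }
    exact ext_middle hS M _ h₁ h₃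

/-- S5788. -/
lemma injDim_iff_ext_quotient (Y : ModuleCat.{u} A) (n : ℕ) :
    HasInjectiveDimensionLT Y (n + 1) ↔
      ∀ I : Ideal A, Subsingleton (Ext.{u} (ModuleCat.of A (A ⧸ I)) Y (n + 1)) :=
  ⟨fun h I => @HasInjectiveDimensionLT.subsingleton _ _ _ _ _ (n + 1) h (n + 1) le_rfl _,
    fun h => hasInjectiveDimensionLT_of_enoughProjectives Y (n + 1) (ext_vanish_of_cyclic n Y h)⟩

/-- One step down from `Ext(M, A) = 0`. -/
lemma projDim_step [IsNoetherianRing A] (M : ModuleCat.{u} A) [Module.Finite A M] (e : ℕ)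
    (h : HasProjectiveDimensionLT M (e + 1))
    (hA : Subsingleton (Ext.{u} M (ModuleCat.of A A) e)) : HasProjectiveDimensionLT M e := by
  refine ModuleCat.hasProjectiveDimensionLT_of_forall_finite M e fun L hL => ?_
  obtain ⟨m, g, hg⟩ := Module.Finite.exists_fin' A L
  let S : ShortComplex (ModuleCat.{u} A) := g.shortComplexKer
  have hS : S.ShortExact := LinearMap.shortExact_shortComplexKer hg
  refine ⟨fun a b => ?_⟩
  obtain ⟨x, hx⟩ := Ext.covariant_sequence_exact₃ M hS (a - b) (rfl : e + 1 = e + 1)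
    (Ext.eq_zero_of_hasProjectiveDimensionLT _ (e + 1) le_rfl)
  haveI : Subsingleton (Ext.{u} M S.X₂ e) := ext_pi M A e hA m
  rw [← sub_eq_zero, ← hx, Subsingleton.elim x 0, Ext.zero_comp]

lemma projDim_le_of_ext_self [IsNoetherianRing A] (M : ModuleCat.{u} A) [Module.Finite A M] (d : ℕ) :
    ∀ e : ℕ, HasProjectiveDimensionLT M e →
      (∀ i : ℕ, d ≤ i → Subsingleton (Ext.{u} M (ModuleCat.of A A) i)) → HasProjectiveDimensionLT M d
  | 0, h, _ => hasProjectiveDimensionLT_of_ge M 0 d (Nat.zero_le _)
  | e + 1, h, hA => by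
    by_cases hed : e + 1 ≤ d
    · exact hasProjectiveDimensionLT_of_ge M (e + 1) d hed
    · exact projDim_le_of_ext_self M d e (projDim_step M e h (hA e (by lia))) hA

/-- Finite projective dimension from regularity at maximal ideals. -/
lemma exists_projDim_of_regular_max [IsNoetherianRing A]
    (hreg : ∀ m : MaximalSpectrum A, IsRegularLocalRing (Localization.AtPrime m.asIdeal))
    (M : Type u) [AddCommGroup M] [Module A M] [Module.Finite A M] :
    ∃ d : ℕ, HasProjectiveDimensionLT (ModuleCat.of A M) (d + 1) := by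
  let U : ℕ → Set (PrimeSpectrum A) := fun n =>
    {p | HasProjectiveDimensionLT (locMod p M) (n + 1)}
  have hU : ∀ p, ∃ n, p ∈ U n := fun p => by
    obtain ⟨m, hm, hle⟩ := Ideal.exists_le_maximal p.asIdeal p.isPrime.ne_top
    let q : PrimeSpectrum A := ⟨m, hm.isPrime⟩
    haveI : IsRegularLocalRing (Localization.AtPrime q.asIdeal) := hreg ⟨m, hm⟩
    have h : ringKrullDim (Localization.AtPrime q.asIdeal) =
        ((IsLocalRing.maximalIdeal (Localization.AtPrime q.asIdeal)).spanFinrank : WithBot ℕ∞) :=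
      (IsRegularLocalRing.spanFinrank_maximalIdeal).symm
    have hq : q ∈ U _ := gldim_le_of_regularLocal _ _ h (locMod q M)
    have hs : p ⤳ q := (PrimeSpectrum.le_iff_specializes p q).1 hle
    exact ⟨_, hs.mem_open (pd_locus _ M).1 hq⟩
  obtain ⟨t, ht⟩ := isCompact_univ.elim_finite_subcover U (fun n => (pd_locus n M).1)
    (fun p _ => Set.mem_iUnion.2 (hU p))
  refine ⟨t.sup id, (pd_locus _ M).2.2 fun p => ?_⟩
  obtain ⟨n, hn, hp⟩ := Set.mem_iUnion₂.1 (ht (Set.mem_univ p))
  haveI : HasProjectiveDimensionLT (locMod p M) (n + 1) := hp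
  exact hasProjectiveDimensionLT_of_ge _ (n + 1) _ (Nat.succ_le_succ (Finset.le_sup (f := id) hn))

lemma t1_iff {M N F : Type u} [AddCommGroup M] [Module A M] [AddCommGroup N] [Module A N]
    [AddCommGroup F] [Module A F] [Module.Flat A F] (g : F →ₗ[A] M) (hg : Function.Surjective g) :
    T1 (A := A) M N ↔ Function.Injective ((LinearMap.ker g).subtype.rTensor N) := by
  have hN : Function.Surjective (Finsupp.linearCombination A (id : N → N)) :=
    Finsupp.linearCombination_id_surjective A N
  exact ⟨fun h => h F g hg, fun h F' _ _ _ g' hg' =>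
    (snake g' _ hg' hN).2 ((snake g _ hg hN).1 h)⟩

lemma t1_shift {M N F G : Type u} [AddCommGroup M] [Module A M] [AddCommGroup N] [Module A N]
    [AddCommGroup F] [Module A F] [Module.Flat A F] [AddCommGroup G] [Module A G] [Module.Flat A G]
    (g : F →ₗ[A] M) (hg : Function.Surjective g) (h : G →ₗ[A] N) (hh : Function.Surjective h) :
    T1 (A := A) (LinearMap.ker g) N ↔ T1 (A := A) M (LinearMap.ker h) := by
  let K := LinearMap.ker g
  let k : (K →₀ A) →ₗ[A] K := Finsupp.linearCombination A (id : K → K)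
  have hk : Function.Surjective k := Finsupp.linearCombination_id_surjective A K
  rw [t1_iff k hk, snake k h hk hh, t1_iff g hg, shift g h]

/-- `Tor₁(Ω^n M, N) = Tor₁(M, Ω^n N)`. -/
lemma t1_chain (n : ℕ) : ∀ (N L M X : ModuleCat.{u} A), Syz n N L → Syz n M X →
    (T1 (A := A) X N ↔ T1 (A := A) M L) := by
  induction n with
  | zero =>
    intro N L M X hL hX
    obtain rfl : L = N := hL
    obtain rfl : X = M := hX
    exact Iff.rfl
  | succ n ih =>
    intro N L M X hL hX
    obtain ⟨G, h, hG, hh, hL⟩ := hL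
    obtain ⟨X₀, F, g, hX₀, hF, hg, rfl⟩ := syz_last n M X hX
    have e1 := t1_shift (A := A) (M := X₀) (N := N) (F := F) (G := G) g hg h hh
    exact e1.trans (ih (ModuleCat.of A (LinearMap.ker h)) L M X₀ hL hX₀)

lemma exists_syz : ∀ (n : ℕ) (M : ModuleCat.{u} A), ∃ X, Syz n M X
  | 0, M => ⟨M, rfl⟩
  | n + 1, M => by
    obtain ⟨X, hX⟩ := exists_syz n
      (ModuleCat.of A (LinearMap.ker (Finsupp.linearCombination A (id : M → M))))
    exact ⟨X, syz_cons ⟨ModuleCat.of A (M →₀ A), Finsupp.linearCombination A (id : M → M),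
      inferInstanceAs (Module.Flat A (M →₀ A)), Finsupp.linearCombination_id_surjective A M, hX⟩⟩

/-- The last term of a resolution. -/
lemma exists_syz_res {M : ModuleCat.{u} A} (P : ProjectiveResolution M) : ∀ n : ℕ,
    ∃ (X : ModuleCat.{u} A) (g : P.complex.X n →ₗ[A] X), Syz n M X ∧ Function.Surjective g ∧
      Function.Exact (P.complex.d (n + 1) n).hom g
  | 0 => ⟨M, (P.π.f 0).hom, rfl, (ModuleCat.epi_iff_surjective _).1 inferInstance,
      (ShortComplex.ShortExact.moduleCat_exact_iff_function_exact _).1 P.exact₀⟩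
  | n + 1 => by
    obtain ⟨X₀, g₀, hX₀, hg₀, hex₀⟩ := exists_syz_res P n
    haveI : Module.Projective A (P.complex.X n) := (IsProjective.iff_projective _).2 (P.projective n)
    let g : P.complex.X (n + 1) →ₗ[A] LinearMap.ker g₀ :=
      (P.complex.d (n + 1) n).hom.codRestrict _ fun x => hex₀.apply_apply_eq_zero x
    refine ⟨ModuleCat.of A (LinearMap.ker g₀), g,
      syz_snoc n M X₀ (P.complex.X n) g₀ hX₀ inferInstance hg₀, ?_, fun x => ?_⟩
    · rintro ⟨y, hy⟩
      obtain ⟨x, hx⟩ := (hex₀ y).1 hy
      exact ⟨x, Subtype.ext hx⟩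
    · have hx := (ShortComplex.ShortExact.moduleCat_exact_iff_function_exact _).1 (P.exact_succ n) x
      exact ⟨fun h0 => hx.1 (congrArg Subtype.val h0), fun h0 => Subtype.ext (hx.2 h0)⟩
where
  syz_snoc : ∀ (n : ℕ) (M X₀ F : ModuleCat.{u} A) (g : F →ₗ[A] X₀), Syz n M X₀ → Module.Flat A F →
      Function.Surjective g → Syz (n + 1) M (ModuleCat.of A (LinearMap.ker g))
    | 0, M, X₀, F, g, h, hF, hg => by
      cases (show X₀ = M from h); exact syz_cons ⟨F, g, hF, hg, rfl⟩
    | n + 1, M, X₀, F, g, ⟨F', g', hF', hg', h⟩, hF, hg =>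
      syz_cons ⟨F', g', hF', hg', syz_snoc n _ X₀ F g h hF hg⟩

/-- S5809, the sufficiency. -/
lemma projDim_le_of_tor [IsLocalRing A] [IsNoetherianRing A] (M : ModuleCat.{u} A) [Module.Finite A M]
    (n : ℕ) (h : IsZero (((CategoryTheory.Tor (ModuleCat.{u} A) (n + 1)).obj
      (ModuleCat.of A (IsLocalRing.ResidueField A))).obj M)) :
    HasProjectiveDimensionLT M (n + 1) := by
  let k := ModuleCat.of A (IsLocalRing.ResidueField A)
  let P := projectiveResolution M
  obtain ⟨Z, g, hZ, hg, hex⟩ := exists_syz_res P n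
  haveI : Module.Projective A (P.complex.X n) := (IsProjective.iff_projective _).2 (P.projective n)
  have h1 := (DRingPC.torIso k P (n + 1)).symm.isZero_iff.2 h
  rw [← HomologicalComplex.exactAt_iff_isZero_homology,
    HomologicalComplex.exactAt_iff' _ (n + 2) (n + 1) n (by simp) (by simp),
    ShortComplex.ShortExact.moduleCat_exact_iff_function_exact] at h1
  change Function.Exact ((P.complex.d (n + 2) (n + 1)).hom.lTensor k)
    ((P.complex.d (n + 1) n).hom.lTensor k) at h1
  let c : P.complex.X (n + 1) →ₗ[A] LinearMap.ker g :=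
    (P.complex.d (n + 1) n).hom.codRestrict _ fun x => hex.apply_apply_eq_zero x
  have hc : Function.Surjective c := fun ⟨y, hy⟩ => by
    obtain ⟨x, hx⟩ := (hex y).1 hy
    exact ⟨x, Subtype.ext hx⟩
  have hi : Function.Injective ((LinearMap.ker g).subtype.lTensor k) := by
    rw [injective_iff_map_eq_zero]
    intro z hz
    obtain ⟨y, rfl⟩ := LinearMap.lTensor_surjective k hc z
    rw [← LinearMap.lTensor_comp_apply] at hz
    obtain ⟨w, rfl⟩ := (h1 y).1 hz
    rw [← LinearMap.lTensor_comp_apply]
    have : c ∘ₗ (P.complex.d (n + 2) (n + 1)).hom = 0 := LinearMap.ext fun x => Subtype.ext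
      (ConcreteCategory.congr_hom (P.complex.d_comp_d (n + 2) (n + 1) n) x)
    rw [this, LinearMap.lTensor_zero, LinearMap.zero_apply]
  rw [LinearMap.lTensor_inj_iff_rTensor_inj, ← t1_iff g hg] at hi
  obtain ⟨L, hL⟩ := exists_syz n k
  refine projDim_le_of_syz n M inferInstance fun X hX hs => ?_
  haveI := hX
  have hXk : T1 (A := A) X k := (t1_chain n k L M X hL hs).2 ((t1_chain n k L M Z hL hZ).1 hi)
  obtain ⟨m, f, hf⟩ := Module.Finite.exists_fin' A X
  have hi' := hXk (Fin m → A) f hf
  change Function.Injective ((LinearMap.ker f).subtype.rTensor (IsLocalRing.ResidueField A)) at hi'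
  rw [← LinearMap.lTensor_inj_iff_rTensor_inj] at hi'
  obtain ⟨r, hr⟩ := (IsLocalRing.split_injective_iff_lTensor_residueField_injective _).2 hi'
  have t := Function.Exact.split_tfae (LinearMap.exact_subtype_ker_map f) Subtype.val_injective hf
  have t' : (∃ s, f ∘ₗ s = LinearMap.id) ↔ ∃ r, r ∘ₗ (LinearMap.ker f).subtype = LinearMap.id :=
    t.out 0 1
  obtain ⟨s, hs'⟩ := t'.2 ⟨r, hr⟩
  exact Module.Projective.of_split s f hs'

section BaseChange

variable (B : Type u) [CommRing B] [Algebra A B] [Module.Flat A B]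

lemma baseChange_ses {K F M : Type u} [AddCommGroup K] [Module A K] [AddCommGroup F] [Module A F]
    [AddCommGroup M] [Module A M] (f : K →ₗ[A] F) (g : F →ₗ[A] M)
    (hf : Function.Injective f) (hex : Function.Exact f g) (hg : Function.Surjective g) :
    Function.Injective (f.baseChange B) ∧ Function.Exact (f.baseChange B) (g.baseChange B) ∧
      Function.Surjective (g.baseChange B) :=
  ⟨Module.Flat.lTensor_preserves_injective_linearMap f hf, lTensor_exact B hex hg,
    LinearMap.lTensor_surjective B hg⟩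

lemma projDim_baseChange : ∀ (n : ℕ) (M : Type u) [AddCommGroup M] [Module A M],
    HasProjectiveDimensionLT (ModuleCat.of A M) (n + 1) →
      HasProjectiveDimensionLT (ModuleCat.of B (B ⊗[A] M)) (n + 1)
  | 0, M, _, _, h => by
    haveI := (projDim_zero_iff M).1 h
    exact (projDim_zero_iff _).2 inferInstance
  | n + 1, M, _, _, h => by
    let g : (M →₀ A) →ₗ[A] M := Finsupp.linearCombination A (id : M → M)
    have hg : Function.Surjective g := Finsupp.linearCombination_id_surjective A M
    have hex : Function.Exact (LinearMap.ker g).subtype g := LinearMap.exact_subtype_ker_map g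
    obtain ⟨h1, h2, h3⟩ := baseChange_ses (A := A) (K := LinearMap.ker g) (M := M) B (LinearMap.ker g).subtype g Subtype.val_injective hex hg
    exact (shift_iff _ _ h1 h2 h3 n).2 (projDim_baseChange n (LinearMap.ker g)
      ((shift_iff _ g Subtype.val_injective (LinearMap.exact_subtype_ker_map g) hg n).1 h))

lemma projDim_descend [IsNoetherianRing A] [Module.FaithfullyFlat A B] : ∀ (n : ℕ) (M : Type u)
    [AddCommGroup M] [Module A M] [Module.Finite A M],
    HasProjectiveDimensionLT (ModuleCat.of B (B ⊗[A] M)) (n + 1) →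
      HasProjectiveDimensionLT (ModuleCat.of A M) (n + 1)
  | 0, M, _, _, _, h => by
    haveI := (projDim_zero_iff _).1 h
    haveI : Module.Flat A M := Module.Flat.of_flat_tensorProduct A M B
    haveI : Module.FinitePresentation A M := Module.finitePresentation_of_finite A M
    exact (projDim_zero_iff M).2 Module.Flat.projective_of_finitePresentation
  | n + 1, M, _, _, _, h => by
    obtain ⟨m, g, hg⟩ := Module.Finite.exists_fin' A M
    have hex : Function.Exact (LinearMap.ker g).subtype g := LinearMap.exact_subtype_ker_map g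
    obtain ⟨h1, h2, h3⟩ := baseChange_ses (A := A) (K := LinearMap.ker g) (M := M) B (LinearMap.ker g).subtype g Subtype.val_injective hex hg
    exact (shift_iff _ g Subtype.val_injective (LinearMap.exact_subtype_ker_map g) hg n).2
      (projDim_descend n (LinearMap.ker g) ((shift_iff _ _ h1 h2 h3 n).1 h))

/-- S2600. -/
lemma projectiveDimension_baseChange_le (M : Type u) [AddCommGroup M] [Module A M] :
    projectiveDimension (ModuleCat.of B (B ⊗[A] M)) ≤ projectiveDimension (ModuleCat.of A M) := by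
  refine le_sInf fun k hk => ?_
  apply sInf_le
  intro i hi
  match i with
  | 0 =>
    haveI := hk 0 hi
    haveI : Subsingleton M := ModuleCat.subsingleton_of_isZero
      ((hasProjectiveDimensionLT_zero_iff_isZero _).1 (hk 0 hi))
    exact (hasProjectiveDimensionLT_zero_iff_isZero _).2 (ModuleCat.isZero_of_subsingleton _)
  | i + 1 => exact projDim_baseChange B i M (hk _ hi)

/-- S2601. -/
lemma projectiveDimension_baseChange_eq [IsNoetherianRing A] [Module.FaithfullyFlat A B]
    (M : Type u) [AddCommGroup M] [Module A M] [Module.Finite A M] :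
    projectiveDimension (ModuleCat.of B (B ⊗[A] M)) = projectiveDimension (ModuleCat.of A M) := by
  refine le_antisymm (projectiveDimension_baseChange_le B M) (le_sInf fun k hk => ?_)
  apply sInf_le
  intro i hi
  match i with
  | 0 =>
    haveI : Subsingleton (B ⊗[A] M) := ModuleCat.subsingleton_of_isZero
      ((hasProjectiveDimensionLT_zero_iff_isZero _).1 (hk 0 hi))
    haveI : Subsingleton M := Module.FaithfullyFlat.lTensor_reflects_triviality A B M
    exact (hasProjectiveDimensionLT_zero_iff_isZero _).2 (ModuleCat.isZero_of_subsingleton _)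
  | i + 1 => exact projDim_descend B i M (hk _ hi)

end BaseChange

end Groth.Agent.ProjDim
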