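import Groth.Agent.ProjDim.Syzygy
import Groth.Agent.DepthLib.RegularLocal
import Mathlib.RingTheory.RegularLocalRing.Defs
import Mathlib.RingTheory.LocalProperties.Projective
import Mathlib.RingTheory.Spectrum.Prime.FreeLocus
import Mathlib.RingTheory.Localization.Finiteness

/-!
Projective dimension over regular rings.
-/

set_option autoImplicit false
set_option linter.style.haveILetI false
universe u

open CategoryTheory CategoryTheory.Limits RingTheory.Sequence

namespace Groth.Agent.ProjDim

/-- The maximal ideal of a regular local ring is generated by a weakly regular sequence. -/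
lemma exists_regular_generators : ∀ (n : ℕ) (R : Type u) [CommRing R] [IsRegularLocalRing R],
    (IsLocalRing.maximalIdeal R).spanFinrank = n →
      ∃ rs : List R, rs.length = n ∧ IsWeaklyRegular R rs ∧
        Ideal.ofList rs = IsLocalRing.maximalIdeal R
  | 0, R, _, _, hn => by
    rw [Submodule.spanFinrank_eq_zero_iff_eq_bot (IsNoetherian.noetherian _)] at hn
    exact ⟨[], rfl, IsWeaklyRegular.nil R R, by rw [Ideal.ofList_nil, hn]⟩
  | n + 1, R, _, _, hn => by
    obtain ⟨x, hx, hxmin, hreg, hnq⟩ := DepthLib.exists_regularLocal_quotient hn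
    haveI := DepthLib.isDomain_of_isRegularLocalRing R
    have hx0 : x ≠ 0 := fun h => by
      obtain ⟨q, hq, -⟩ := Ideal.exists_minimalPrimes_le (I := (⊥ : Ideal R))
        (J := IsLocalRing.maximalIdeal R) bot_le
      exact hxmin q hq (h ▸ q.zero_mem)
    obtain ⟨rs', hl, hw, hgen⟩ := exists_regular_generators n (R ⧸ Ideal.span {x}) hnq
    let l := rs'.map (Function.surjInv (Ideal.Quotient.mk_surjective (I := Ideal.span {x})))
    have hmap : l.map (algebraMap R (R ⧸ Ideal.span {x})) = rs' := by
      rw [List.map_map]
      exact (List.map_congr_left fun y _ => Function.surjInv_eq _ y).trans (List.map_id rs')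
    refine ⟨x :: l, by simp [l, hl], (isWeaklyRegular_cons_iff R x l).2
      ⟨fun a b h => mul_left_cancel₀ hx0 h, ?_⟩, ?_⟩
    · let e : QuotSMulTop x R ≃ₗ[R] R ⧸ Ideal.span {x} := Submodule.quotEquivOfEq _ _ (by
        rw [← Submodule.ideal_span_singleton_smul, smul_eq_mul, Ideal.mul_top])
      rw [e.isWeaklyRegular_congr, ← isWeaklyRegular_map_algebraMap_iff (R ⧸ Ideal.span {x}), hmap]
      exact hw
    · have h1 : (Ideal.ofList (x :: l)).map (Ideal.Quotient.mk (Ideal.span {x})) =
          IsLocalRing.maximalIdeal (R ⧸ Ideal.span {x}) := by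
        rw [Ideal.map_ofList, List.map_cons,
          Ideal.Quotient.eq_zero_iff_mem.2 (Ideal.mem_span_singleton_self x)]
        change Ideal.ofList (0 :: l.map (algebraMap R (R ⧸ Ideal.span {x}))) = _
        rw [hmap, Ideal.ofList_cons, hgen, Ideal.span_singleton_eq_bot.2 rfl, bot_sup_eq]
      have hle : RingHom.ker (Ideal.Quotient.mk (Ideal.span {x})) ≤ Ideal.ofList (x :: l) := by
        rw [Ideal.mk_ker, Ideal.ofList_cons]
        exact le_sup_left
      have hm : RingHom.ker (Ideal.Quotient.mk (Ideal.span {x})) ≤ IsLocalRing.maximalIdeal R := by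
        rw [Ideal.mk_ker]
        exact (Ideal.span_singleton_le_iff_mem _).2 hx
      have h2 : (IsLocalRing.maximalIdeal R).map (Ideal.Quotient.mk (Ideal.span {x})) =
          IsLocalRing.maximalIdeal (R ⧸ Ideal.span {x}) :=
        IsLocalRing.eq_maximalIdeal (Ideal.IsMaximal.map_of_surjective_of_ker_le
          Ideal.Quotient.mk_surjective hm)
      calc Ideal.ofList (x :: l)
          = ((Ideal.ofList (x :: l)).map (Ideal.Quotient.mk (Ideal.span {x}))).comap
              (Ideal.Quotient.mk (Ideal.span {x})) := by
            rw [Ideal.comap_map_of_surjective _ Ideal.Quotient.mk_surjective]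
            exact (sup_eq_left.2 hle).symm
        _ = _ := by
            rw [h1, ← h2, Ideal.comap_map_of_surjective _ Ideal.Quotient.mk_surjective]
            exact sup_eq_left.2 hm

/-- The residue field of a regular local ring of dimension `d` has projective dimension `≤ d`. -/
lemma projDim_residueField_le (R : Type u) [CommRing R] [IsRegularLocalRing R] (d : ℕ)
    (hd : ringKrullDim R = d) :
    HasProjectiveDimensionLT (ModuleCat.of R (IsLocalRing.ResidueField R)) (d + 1) := by
  have hn : (IsLocalRing.maximalIdeal R).spanFinrank = d := by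
    have h := IsRegularLocalRing.spanFinrank_maximalIdeal (R := R)
    rw [hd] at h
    exact_mod_cast h
  obtain ⟨rs, hl, hw, hgen⟩ := exists_regular_generators d R hn
  have hr : RingTheory.Sequence.IsRegular R rs := ⟨hw, by
    rw [hgen, smul_eq_mul, Ideal.mul_top]
    exact (IsLocalRing.maximalIdeal.isMaximal R).ne_top.symm⟩
  have h := ModuleCat.projectiveDimension_quotient_eq_length.{u} rs hr
  rw [hl] at h
  haveI := (projectiveDimension_le_iff
    (ModuleCat.of R (Shrink.{u} (R ⧸ Ideal.ofList rs))) d).1 h.le
  let e : Shrink.{u} (R ⧸ Ideal.ofList rs) ≃ₗ[R] IsLocalRing.ResidueField R :=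
    (Shrink.linearEquiv R (R ⧸ Ideal.ofList rs)).trans (Submodule.quotEquivOfEq _ _ hgen)
  exact hasProjectiveDimensionLT_of_iso e.toModuleIso (d + 1)

/-- S0563. -/
lemma gldim_le_of_regularLocal (R : Type u) [CommRing R] [IsRegularLocalRing R] (d : ℕ)
    (hd : ringKrullDim R = d) (M : ModuleCat.{u} R) : HasProjectiveDimensionLT M (d + 1) :=
  gldim_le_of_residueField d (projDim_residueField_le R d hd) M

section Localisation

variable {A : Type u} [CommRing A]

/-- Localisation of a module at a prime, as an object. -/
noncomputable abbrev locMod (p : PrimeSpectrum A) (M : Type u) [AddCommGroup M] [Module A M] :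
    ModuleCat.{u} (Localization.AtPrime p.asIdeal) :=
  ModuleCat.of (Localization.AtPrime p.asIdeal) (LocalizedModule p.asIdeal.primeCompl M)

lemma loc_ses (S : Submonoid A) {K F M : Type u} [AddCommGroup K] [Module A K] [AddCommGroup F]
    [Module A F] [AddCommGroup M] [Module A M] (f : K →ₗ[A] F) (g : F →ₗ[A] M)
    (hf : Function.Injective f) (hex : Function.Exact f g) (hg : Function.Surjective g) :
    ∃ (f' : LocalizedModule S K →ₗ[Localization S] LocalizedModule S F)
      (g' : LocalizedModule S F →ₗ[Localization S] LocalizedModule S M),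
      Function.Injective f' ∧ Function.Exact f' g' ∧ Function.Surjective g' :=
  ⟨LocalizedModule.map S f, LocalizedModule.map S g, LocalizedModule.map_injective S f hf,
    LocalizedModule.map_exact S f g hex, LocalizedModule.map_surjective S g hg⟩

lemma shift_iff {R : Type u} [CommRing R] {K F M : Type u} [AddCommGroup K] [Module R K]
    [AddCommGroup F] [Module R F] [Module.Projective R F] [AddCommGroup M] [Module R M]
    (f : K →ₗ[R] F) (g : F →ₗ[R] M)
    (hf : Function.Injective f) (hex : Function.Exact f g) (hg : Function.Surjective g) (n : ℕ) :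
    HasProjectiveDimensionLT (ModuleCat.of R M) (n + 2) ↔
      HasProjectiveDimensionLT (ModuleCat.of R K) (n + 1) := by
  let S : ShortComplex (ModuleCat.{u} R) :=
    ShortComplex.mk (ModuleCat.ofHom f) (ModuleCat.ofHom g) (ModuleCat.hom_ext hex.linearMap_comp_eq_zero)
  have hS : S.ShortExact :=
    { exact := (ShortComplex.ShortExact.moduleCat_exact_iff_function_exact S).2 hex
      mono_f := (ModuleCat.mono_iff_injective _).2 hf
      epi_g := (ModuleCat.epi_iff_surjective _).2 hg }
  haveI : Projective S.X₂ := (IsProjective.iff_projective (R := R) F).1 inferInstance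
  exact hS.hasProjectiveDimensionLT_X₃_iff n inferInstance

lemma projDim_zero_iff {R : Type u} [CommRing R] (M : Type u) [AddCommGroup M] [Module R M] :
    HasProjectiveDimensionLT (ModuleCat.of R M) 1 ↔ Module.Projective R M :=
  projective_iff_hasProjectiveDimensionLT_one.symm.trans (IsProjective.iff_projective (R := R) M).symm

/-- The locus where the projective dimension is at most `n` is open, and being everything means
global projective dimension at most `n`. -/
lemma pd_locus [IsNoetherianRing A] : ∀ (n : ℕ) (M : Type u) [AddCommGroup M] [Module A M]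
    [Module.Finite A M],
    (IsOpen {p : PrimeSpectrum A | HasProjectiveDimensionLT (locMod p M) (n + 1)}) ∧
      (HasProjectiveDimensionLT (ModuleCat.of A M) (n + 1) ↔
        ∀ p : PrimeSpectrum A, HasProjectiveDimensionLT (locMod p M) (n + 1))
  | 0, M, _, _, _ => by
    haveI : Module.FinitePresentation A M := Module.finitePresentation_of_finite A M
    have e : ∀ p : PrimeSpectrum A, HasProjectiveDimensionLT (locMod p M) 1 ↔ p ∈ Module.freeLocus A M := by
      intro p
      rw [projDim_zero_iff]
      exact ⟨fun _ => Module.free_of_flat_of_isLocalRing, fun h =>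
        haveI : Module.Free (Localization.AtPrime p.asIdeal) (LocalizedModule p.asIdeal.primeCompl M) := h
        Module.Projective.of_free⟩
    refine ⟨?_, ?_⟩
    · rw [show {p : PrimeSpectrum A | HasProjectiveDimensionLT (locMod p M) (0 + 1)} = Module.freeLocus A M
        from Set.ext e]
      exact Module.isOpen_freeLocus
    · simp only [Nat.zero_add, e, projDim_zero_iff]
      exact Module.freeLocus_eq_univ_iff.symm.trans Set.eq_univ_iff_forall
  | n + 1, M, _, _, _ => by
    obtain ⟨m, g, hg⟩ := Module.Finite.exists_fin' A M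
    obtain ⟨ho, hi⟩ := pd_locus n (LinearMap.ker g)
    have key : ∀ p : PrimeSpectrum A, HasProjectiveDimensionLT (locMod p M) (n + 2) ↔
        HasProjectiveDimensionLT (locMod p (LinearMap.ker g)) (n + 1) := by
      intro p
      obtain ⟨f', g', h1, h2, h3⟩ := loc_ses p.asIdeal.primeCompl (LinearMap.ker g).subtype g
        Subtype.val_injective (LinearMap.exact_subtype_ker_map g) hg
      haveI : Module.Free (Localization p.asIdeal.primeCompl)
          (LocalizedModule p.asIdeal.primeCompl (Fin m → A)) :=
        Module.free_of_isLocalizedModule p.asIdeal.primeCompl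
          (LocalizedModule.mkLinearMap p.asIdeal.primeCompl (Fin m → A))
      exact shift_iff f' g' h1 h2 h3 n
    refine ⟨?_, ?_⟩
    · simp only [key]; exact ho
    · rw [shift_iff (LinearMap.ker g).subtype g Subtype.val_injective
        (LinearMap.exact_subtype_ker_map g) hg n, hi]
      simp only [key]

/-- S5165. -/
lemma exists_projDim_of_regular [IsNoetherianRing A]
    (hreg : ∀ p : PrimeSpectrum A, IsRegularLocalRing (Localization.AtPrime p.asIdeal))
    (M : Type u) [AddCommGroup M] [Module A M] [Module.Finite A M] :
    ∃ d : ℕ, HasProjectiveDimensionLT (ModuleCat.of A M) (d + 1) := by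
  let U : ℕ → Set (PrimeSpectrum A) := fun n =>
    {p | HasProjectiveDimensionLT (locMod p M) (n + 1)}
  have hU : ∀ p, ∃ n, p ∈ U n := fun p => by
    haveI := hreg p
    have h : ringKrullDim (Localization.AtPrime p.asIdeal) =
        ((IsLocalRing.maximalIdeal (Localization.AtPrime p.asIdeal)).spanFinrank : WithBot ℕ∞) :=
      (IsRegularLocalRing.spanFinrank_maximalIdeal).symm
    exact ⟨_, gldim_le_of_regularLocal _ _ h _⟩
  obtain ⟨t, ht⟩ := isCompact_univ.elim_finite_subcover U (fun n => (pd_locus n M).1)
    (fun p _ => Set.mem_iUnion.2 (hU p))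
  refine ⟨t.sup id, (pd_locus _ M).2.2 fun p => ?_⟩
  obtain ⟨n, hn, hp⟩ := Set.mem_iUnion₂.1 (ht (Set.mem_univ p))
  haveI : HasProjectiveDimensionLT (locMod p M) (n + 1) := hp
  exact hasProjectiveDimensionLT_of_ge _ (n + 1) _ (Nat.succ_le_succ (Finset.le_sup (f := id) hn))

end Localisation

end Groth.Agent.ProjDim
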