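import Mathlib.RingTheory.Flat.Basic
import Mathlib.RingTheory.Flat.Equalizer
import Mathlib.RingTheory.LocalRing.Module
import Mathlib.RingTheory.Finiteness.Projective
import Mathlib.RingTheory.Noetherian.Basic
import Mathlib.CategoryTheory.Abelian.Projective.Dimension
import Mathlib.Algebra.Category.ModuleCat.EnoughInjectives
import Mathlib.Algebra.Category.ModuleCat.Projective
import Mathlib.Algebra.Category.ModuleCat.Ext.HasExt
import Mathlib.Algebra.Module.Injective
import Mathlib.RingTheory.Regular.ProjectiveDimension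

/-!
Syzygies, the residue field criterion, and the cyclic criterion for projective dimension.
-/

set_option autoImplicit false
set_option linter.style.haveILetI false
set_option linter.unusedSectionVars false
universe u

open CategoryTheory CategoryTheory.Limits
open scoped TensorProduct

namespace Groth.Agent.ProjDim

variable {A : Type u} [CommRing A]

/-- Every presentation of `M` by a flat module stays injective after `⊗ N`: `Tor₁(M, N) = 0`. -/
def T1 (M N : Type u) [AddCommGroup M] [Module A M] [AddCommGroup N] [Module A N] : Prop :=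
  ∀ (F : Type u) [AddCommGroup F] [Module A F] [Module.Flat A F] (g : F →ₗ[A] M),
    Function.Surjective g → Function.Injective ((LinearMap.ker g).subtype.rTensor N)

section Snake

variable {M N F G : Type u} [AddCommGroup M] [Module A M] [AddCommGroup N] [Module A N]
  [AddCommGroup F] [Module A F] [Module.Flat A F] [AddCommGroup G] [Module A G] [Module.Flat A G]
  (g : F →ₗ[A] M) (h : G →ₗ[A] N)

lemma comm_sq {X X' Y Y' : Type u} [AddCommGroup X] [Module A X] [AddCommGroup X'] [Module A X']
    [AddCommGroup Y] [Module A Y] [AddCommGroup Y'] [Module A Y'] (a : X →ₗ[A] X') (b : Y →ₗ[A] Y')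
    (z : X ⊗[A] Y) : a.rTensor Y' (b.lTensor X z) = b.lTensor X' (a.rTensor Y z) :=
  LinearMap.congr_fun ((LinearMap.rTensor_comp_lTensor _ _ _).trans
    (LinearMap.lTensor_comp_rTensor _ _ _).symm) z

lemma snake_aux (hg : Function.Surjective g) (hh : Function.Surjective h)
    (H : Function.Injective ((LinearMap.ker g).subtype.rTensor N)) :
    Function.Injective ((LinearMap.ker h).subtype.lTensor M) := by
  let k := (LinearMap.ker g).subtype
  let l := (LinearMap.ker h).subtype
  rw [injective_iff_map_eq_zero]
  intro z hz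
  obtain ⟨w, rfl⟩ := LinearMap.rTensor_surjective (LinearMap.ker h) hg z
  have h1 : g.rTensor G (l.lTensor F w) = 0 := (comm_sq g l w).trans hz
  obtain ⟨u', hu⟩ := (rTensor_exact G (LinearMap.exact_subtype_ker_map g) hg _).1 h1
  have h2 : h.lTensor (LinearMap.ker g) u' = 0 := H (by
    rw [map_zero, comm_sq, hu, ← LinearMap.lTensor_comp_apply,
      (LinearMap.exact_subtype_ker_map h).linearMap_comp_eq_zero, LinearMap.lTensor_zero,
      LinearMap.zero_apply])
  obtain ⟨u₀, rfl⟩ := (lTensor_exact _ (LinearMap.exact_subtype_ker_map h) hh u').1 h2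
  have h3 : k.rTensor (LinearMap.ker h) u₀ = w := by
    apply Module.Flat.lTensor_preserves_injective_linearMap (M := F) l Subtype.val_injective
    exact (comm_sq k l u₀).symm.trans hu
  rw [← h3]
  exact (rTensor_exact _ (LinearMap.exact_subtype_ker_map g) hg).apply_apply_eq_zero u₀

/-- The two ways to compute `Tor₁`. -/
lemma snake (hg : Function.Surjective g) (hh : Function.Surjective h) :
    Function.Injective ((LinearMap.ker g).subtype.rTensor N) ↔
      Function.Injective ((LinearMap.ker h).subtype.lTensor M) := by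
  refine ⟨snake_aux g h hg hh, fun H => ?_⟩
  rw [LinearMap.lTensor_inj_iff_rTensor_inj] at H
  rw [← LinearMap.lTensor_inj_iff_rTensor_inj]
  exact snake_aux h g hh hg H

/-- Shifting one step from one variable to the other. -/
lemma shift : Function.Injective ((LinearMap.ker g).subtype.rTensor (LinearMap.ker h)) ↔
    Function.Injective ((LinearMap.ker h).subtype.lTensor (LinearMap.ker g)) := by
  let k := (LinearMap.ker g).subtype
  let l := (LinearMap.ker h).subtype
  have i1 : Function.Injective (k.rTensor G) :=
    Module.Flat.rTensor_preserves_injective_linearMap k Subtype.val_injective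
  have i2 : Function.Injective (l.lTensor F) :=
    Module.Flat.lTensor_preserves_injective_linearMap l Subtype.val_injective
  have e : ∀ z, k.rTensor G (l.lTensor (LinearMap.ker g) z) =
      l.lTensor F (k.rTensor (LinearMap.ker h) z) := comm_sq k l
  exact ⟨fun H => Function.Injective.of_comp (f := k.rTensor G)
      (show Function.Injective fun z => k.rTensor G (l.lTensor _ z) by
        simp only [e]; exact i2.comp H),
    fun H => Function.Injective.of_comp (f := l.lTensor F)
      (show Function.Injective fun z => l.lTensor F (k.rTensor _ z) by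
        simp only [← e]; exact i1.comp H)⟩

end Snake

/-- `X` is an `n`-th syzygy of `M`, along flat modules. -/
def Syz : ℕ → ModuleCat.{u} A → ModuleCat.{u} A → Prop
  | 0, M, X => X = M
  | n + 1, M, X => ∃ (F : ModuleCat.{u} A) (g : F →ₗ[A] M), Module.Flat A F ∧ Function.Surjective g ∧
      Syz n (ModuleCat.of A (LinearMap.ker g)) X

lemma syz_cons {n : ℕ} {M X : ModuleCat.{u} A} (h : ∃ (F : ModuleCat.{u} A) (g : F →ₗ[A] M),
    Module.Flat A F ∧ Function.Surjective g ∧ Syz n (ModuleCat.of A (LinearMap.ker g)) X) :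
    Syz (n + 1) M X := h

lemma syz_last : ∀ (n : ℕ) (M X : ModuleCat.{u} A), Syz (n + 1) M X →
    ∃ (X₀ F : ModuleCat.{u} A) (g : F →ₗ[A] X₀), Syz n M X₀ ∧ Module.Flat A F ∧
      Function.Surjective g ∧ X = ModuleCat.of A (LinearMap.ker g)
  | 0, M, X, ⟨F, g, hF, hg, h⟩ => ⟨M, F, g, rfl, hF, hg, h⟩
  | n + 1, M, X, ⟨F, g, hF, hg, h⟩ => by
    obtain ⟨X₀, F', g', h', hF', hg', rfl⟩ := syz_last n _ _ h
    exact ⟨X₀, F', g', ⟨F, g, hF, hg, h'⟩, hF', hg', rfl⟩

/-- If `pd N ≤ n`, then `Tor₁(Ω^n M, N) = 0`. -/
lemma t1_of_projDim : ∀ (n : ℕ) (N : ModuleCat.{u} A), HasProjectiveDimensionLT N (n + 1) →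
    ∀ M X : ModuleCat.{u} A, Syz n M X → T1 (A := A) X N
  | 0, N, h, M, X, _ => fun F _ _ _ g _ => by
    haveI : Projective N := projective_iff_hasProjectiveDimensionLT_one.2 h
    haveI : Module.Projective A N := (IsProjective.iff_projective _).2 inferInstance
    exact Module.Flat.rTensor_preserves_injective_linearMap _ Subtype.val_injective
  | n + 1, N, h, M, X, hX => fun F _ _ _ g hg => by
    obtain ⟨X₀, F₀, g₀, h₀, hF₀, hg₀, rfl⟩ := syz_last n M X hX
    let hN : (N →₀ A) →ₗ[A] N := Finsupp.linearCombination A (id : N → N)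
    have hNs : Function.Surjective hN := Finsupp.linearCombination_id_surjective A N
    let S : ShortComplex (ModuleCat.{u} A) := hN.shortComplexKer
    have hS : S.ShortExact := LinearMap.shortExact_shortComplexKer hNs
    haveI : Projective S.X₂ :=
      (IsProjective.iff_projective (R := A) (N →₀ A)).1 (inferInstance : Module.Projective A (N →₀ A))
    have hL := (hS.hasProjectiveDimensionLT_X₃_iff n inferInstance).1 h
    have h1 := t1_of_projDim n S.X₁ hL M X₀ h₀ F₀ g₀ hg₀
    exact (snake g hN hg hNs).2 ((shift g₀ hN).1 h1)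

/-- Finite modules all of whose finite `n`-th syzygies are projective. -/
lemma projDim_le_of_syz [IsNoetherianRing A] : ∀ (n : ℕ) (M : ModuleCat.{u} A), Module.Finite A M →
    (∀ X : ModuleCat.{u} A, Module.Finite A X → Syz n M X → Module.Projective A X) →
    HasProjectiveDimensionLT M (n + 1)
  | 0, M, hM, h => by
    haveI := h M hM rfl
    haveI : Projective M := (IsProjective.iff_projective (R := A) M).1 inferInstance
    infer_instance
  | n + 1, M, hM, h => by
    obtain ⟨m, f, hf⟩ := Module.Finite.exists_fin' A M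
    let S : ShortComplex (ModuleCat.{u} A) := f.shortComplexKer
    have hS : S.ShortExact := LinearMap.shortExact_shortComplexKer hf
    haveI : Projective S.X₂ :=
      (IsProjective.iff_projective (R := A) (Fin m → A)).1 (inferInstance : Module.Projective A (Fin m → A))
    refine (hS.hasProjectiveDimensionLT_X₃_iff n inferInstance).2
      (projDim_le_of_syz n S.X₁ (inferInstanceAs (Module.Finite A (LinearMap.ker f))) ?_)
    exact fun X hX hs => h X hX (syz_cons ⟨ModuleCat.of A (Fin m → A), f,
      inferInstanceAs (Module.Flat A (Fin m → A)), hf, hs⟩)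

/-- Residue field criterion, finite modules. -/
lemma projDim_le_of_residueField [IsLocalRing A] [IsNoetherianRing A] (n : ℕ)
    (hk : HasProjectiveDimensionLT (ModuleCat.of A (IsLocalRing.ResidueField A)) (n + 1))
    (M : ModuleCat.{u} A) [Module.Finite A M] : HasProjectiveDimensionLT M (n + 1) := by
  refine projDim_le_of_syz n M inferInstance fun X hX hs => ?_
  haveI := hX
  obtain ⟨m, f, hf⟩ := Module.Finite.exists_fin' A X
  have hi := t1_of_projDim n _ hk M X hs (Fin m → A) f hf
  change Function.Injective ((LinearMap.ker f).subtype.rTensor (IsLocalRing.ResidueField A)) at hi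
  rw [← LinearMap.lTensor_inj_iff_rTensor_inj] at hi
  obtain ⟨r, hr⟩ := (IsLocalRing.split_injective_iff_lTensor_residueField_injective _).2 hi
  have t := Function.Exact.split_tfae (LinearMap.exact_subtype_ker_map f) Subtype.val_injective hf
  have t' : (∃ s, f ∘ₗ s = LinearMap.id) ↔ ∃ r, r ∘ₗ (LinearMap.ker f).subtype = LinearMap.id :=
    t.out 0 1
  obtain ⟨s, hs'⟩ := t'.2 ⟨r, hr⟩
  exact Module.Projective.of_split s f hs'

/-- Cyclic criterion in terms of `Ext`. -/
lemma ext_vanish_of_cyclic : ∀ (n : ℕ) (Y : ModuleCat.{u} A),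
    (∀ I : Ideal A, Subsingleton (Abelian.Ext.{u} (ModuleCat.of A (A ⧸ I)) Y (n + 1))) →
    ∀ M : ModuleCat.{u} A, Subsingleton (Abelian.Ext.{u} M Y (n + 1))
  | 0, Y, h, M => by
    haveI : Module.Injective A Y := Module.Baer.injective fun I f => by
      let S : ShortComplex (ModuleCat.{u} A) := (Submodule.mkQ I).shortComplexKer
      have hS : S.ShortExact := LinearMap.shortExact_shortComplexKer (Submodule.mkQ_surjective I)
      haveI := h I
      let f' : (LinearMap.ker (Submodule.mkQ I)) →ₗ[A] Y :=
        f ∘ₗ (LinearEquiv.ofEq _ _ (Submodule.ker_mkQ I)).toLinearMap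
      obtain ⟨x, hx⟩ := Abelian.Ext.contravariant_sequence_exact₁ hS Y
        (Abelian.Ext.mk₀ (ModuleCat.ofHom f' : S.X₁ ⟶ Y)) (by rfl : 1 + 0 = 0 + 1)
        (Subsingleton.elim _ _)
      obtain ⟨g, rfl⟩ := (Abelian.Ext.mk₀_bijective _ _).2 x
      rw [Abelian.Ext.mk₀_comp_mk₀, (Abelian.Ext.mk₀_bijective _ _).1.eq_iff] at hx
      exact ⟨g.hom, fun x hx' => ConcreteCategory.congr_hom hx ⟨x, (Submodule.ker_mkQ I).symm ▸ hx'⟩⟩
    haveI : Injective Y := Module.injective_object_of_injective_module A Y
    exact ⟨fun a b => by rw [a.eq_zero_of_injective, b.eq_zero_of_injective]⟩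
  | n + 1, Y, h, M => by
    obtain ⟨p⟩ := EnoughInjectives.presentation Y
    haveI := p.injective
    haveI := p.mono
    let S := ShortComplex.mk p.f (cokernel.π p.f) (cokernel.condition p.f)
    have hS : S.ShortExact := { exact := ShortComplex.exact_cokernel p.f }
    have hZ : ∀ I : Ideal A, Subsingleton (Abelian.Ext.{u} (ModuleCat.of A (A ⧸ I)) S.X₃ (n + 1)) := by
      intro I
      refine ⟨fun a b => ?_⟩
      haveI := h I
      obtain ⟨y, hy⟩ := Abelian.Ext.covariant_sequence_exact₃ _ hS (a - b) rfl (Subsingleton.elim _ _)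
      rw [← sub_eq_zero, ← hy, Abelian.Ext.eq_zero_of_injective y, Abelian.Ext.zero_comp]
    haveI := ext_vanish_of_cyclic n S.X₃ hZ M
    refine ⟨fun a b => ?_⟩
    obtain ⟨z, hz⟩ := Abelian.Ext.covariant_sequence_exact₁ M hS (a - b)
      (Abelian.Ext.eq_zero_of_injective _) rfl
    rw [← sub_eq_zero, ← hz, Subsingleton.elim z 0, Abelian.Ext.zero_comp]

/-- Auslander's criterion. -/
lemma projDim_le_of_cyclic (n : ℕ)
    (h : ∀ I : Ideal A, HasProjectiveDimensionLT (ModuleCat.of A (A ⧸ I)) (n + 1))
    (M : ModuleCat.{u} A) : HasProjectiveDimensionLT M (n + 1) :=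
  hasProjectiveDimensionLT_of_enoughInjectives M (n + 1) fun Y =>
    ext_vanish_of_cyclic n Y (fun I => @HasProjectiveDimensionLT.subsingleton _ _ _ _ _ (n + 1) (h I)
      (n + 1) le_rfl Y) M

/-- Global dimension of a Noetherian local ring from its residue field. -/
lemma gldim_le_of_residueField [IsLocalRing A] [IsNoetherianRing A] (n : ℕ)
    (hk : HasProjectiveDimensionLT (ModuleCat.of A (IsLocalRing.ResidueField A)) (n + 1))
    (M : ModuleCat.{u} A) : HasProjectiveDimensionLT M (n + 1) :=
  projDim_le_of_cyclic n (fun _ => projDim_le_of_residueField n hk _) M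

end Groth.Agent.ProjDim
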